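import Cfsg.Agent.Lib.Helper11.Suzc0.D0
import Cfsg.Agent.Lib.Helper11.Words

set_option autoImplicit false
set_option maxRecDepth 100000

namespace Cfsg.Agent.Lib.Helper11.Suzc0

noncomputable def fc1_0 (i : ℕ) : ℕ := (Bool.rec (fc0_0 i) (fc0_1 i) (Nat.ble 16 i))
noncomputable def fc (i : ℕ) : ℕ := fc1_0 i
noncomputable def sc1_0 (i : ℕ) : ℕ := (Bool.rec (sc0_0 i) (sc0_1 i) (Nat.ble 16 i))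
noncomputable def sc (i : ℕ) : ℕ := sc1_0 i
noncomputable def nc (i : ℕ) : ℕ := nc0_0 i
noncomputable def cc (i : ℕ) : ℕ := cc0_0 i

noncomputable def INV : ℕ := 6614517792
def isH (l : ℕ) : Bool := decide (l ∈ [1, 2, 3, 4, 5])
def gens : List ℕ := [1, 2, 3, 4, 5, 6]
def rt : RT := (.node 10 (.node 4 (.node 2 (.node 1 (.leaf 6 0 [6, 6]) (.leaf 2 0 [2, 2])) (.node 3 (.leaf 3 0 [3, 3]) (.leaf 4 0 [4, 4]))) (.node 7 (.node 6 (.node 5 (.leaf 1 0 [1, 1]) (.leaf 24 0 [3, 6, 3, 6])) (.leaf 5 0 [5, 5])) (.node 9 (.node 8 (.leaf 30 0 [4, 6, 4, 6]) (.leaf 36 0 [5, 6, 5, 6])) (.leaf 12 0 [1, 6, 1, 6])))) (.node 20 (.node 15 (.node 13 (.node 12 (.node 11 (.leaf 17 1 [5, 2, 5, 2]) (.leaf 16 1 [4, 2, 4, 2]))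 (.leaf 16 0 [2, 4, 2, 4])) (.node 14 (.leaf 10 0 [1, 4, 1, 4]) (.leaf 9 0 [1, 3, 1, 3]))) (.node 18 (.node 17 (.node 16 (.leaf 18 1 [6, 2, 6, 2, 6, 2]) (.leaf 23 1 [5, 3, 5, 3])) (.leaf 17 0 [2, 5, 2, 5])) (.node 19 (.leaf 15 1 [3, 2, 3, 2, 3, 2]) (.leaf 23 0 [3, 5, 3, 5])))) (.node 28 (.node 24 (.node 22 (.node 21 (.leaf 11 0 [1, 5, 1, 5]) (.leaf 11 1 [5, 1, 5, 1])) (.node 23 (.leaf 10 1 [4, 1, 4, 1]) (.leaf 15 0 [2, 3, 2, 3, 2, 3]))) (.node 26 (.node 25 (.leaf 24 1 [6, 3, 6, 3]) (.leaf 29 0 [4, 5, 4, 5, 4, 5])) (.node 27 (.leaf 29 1 [5, 4, 5, 4, 5, 4]) (.leaf 43 2 [3, 4, 3, 4, 3, 4, 3, 1, 4])))) (.node 34 (.node 31 (.node 30 (.node 29 (.leaf 9 1 [3, 1, 3, 1]) (.leaf 18 0 [2, 6, 2, 6, 2, 6]))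 (.leaf 12 1 [6, 1, 6, 1])) (.node 33 (.node 32 (.leaf 30 1 [6, 4, 6, 4]) (.leaf 36 1 [6, 5, 6, 5])) (.leaf 43 3 [4, 3, 4, 3, 4, 3, 1, 4, 3]))) (.node 38 (.node 36 (.node 35 (.leaf 0 0 []) (.leaf 8 0 [1, 2, 1, 2, 1, 2, 1, 2, 1, 2])) (.node 37 (.leaf 8 1 [2, 1, 2, 1, 2, 1, 2, 1, 2, 1]) (.leaf 44 3 [6, 1, 2, 3, 6, 1, 2, 3, 6, 1, 2, 3, 6, 1, 2, 3, 6, 1, 2, 3]))) (.node 43 (.node 40 (.node 39 (.leaf 45 25 [5, 2, 3, 4, 3, 4, 2, 3, 4, 3, 4, 2, 3, 4, 3, 4, 2, 3, 4, 3, 4, 2, 3, 4, 3, 4, 5, 2, 3, 4, 3, 4, 2, 3, 4, 3, 4, 2, 3, 4, 3, 4, 2, 3, 4, 3, 4, 2, 3, 4, 3, 4, 5, 2, 3, 4, 3, 4, 2, 3, 4, 3, 4, 2, 3, 4, 3, 4, 2, 3, 4, 3, 4, 2, 3, 4, 3, 4]) (.leaf 43 0 [1, 4, 3, 4, 3, 4, 3, 4, 3])) (.node 42 (.node 41 (.leaf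 44 2 [3, 6, 1, 2, 3, 6, 1, 2, 3, 6, 1, 2, 3, 6, 1, 2, 3, 6, 1, 2]) (.leaf 43 6 [3, 4, 3, 1, 4, 3, 4, 3, 4])) (.leaf 44 0 [1, 2, 3, 6, 1, 2, 3, 6, 1, 2, 3, 6, 1, 2, 3, 6, 1, 2, 3, 6]))) (.node 47 (.node 45 (.node 44 (.leaf 45 3 [3, 4, 2, 3, 4, 3, 4, 2, 3, 4, 3, 4, 2, 3, 4, 3, 4, 2, 3, 4, 3, 4, 5, 2, 3, 4, 3, 4, 2, 3, 4, 3, 4, 2, 3, 4, 3, 4, 2, 3, 4, 3, 4, 2, 3, 4, 3, 4, 5, 2, 3, 4, 3, 4, 2, 3, 4, 3, 4, 2, 3, 4, 3, 4, 2, 3, 4, 3, 4, 2, 3, 4, 3, 4, 5, 2, 3, 4]) (.leaf 43 5 [4, 3, 4, 3, 1, 4, 3, 4, 3])) (.node 46 (.leaf 43 8 [3, 1, 4, 3, 4, 3, 4, 3, 4]) (.leaf 45 13 [3, 4, 2, 3, 4, 3, 4, 2, 3, 4, 3, 4, 5, 2, 3, 4, 3, 4, 2, 3, 4, 3, 4, 2, 3, 4, 3, 4, 2, 3, 4, 3, 4, 2, 3, 4, 3, 4, 5, 2, 3, 4, 3, 4, 2,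 3, 4, 3, 4, 2, 3, 4, 3, 4, 2, 3, 4, 3, 4, 2, 3, 4, 3, 4, 5, 2, 3, 4, 3, 4, 2, 3, 4, 3, 4, 2, 3, 4]))) (.node 49 (.node 48 (.leaf 43 7 [4, 3, 1, 4, 3, 4, 3, 4, 3]) (.leaf 45 0 [2, 3, 4, 3, 4, 2, 3, 4, 3, 4, 2, 3, 4, 3, 4, 2, 3, 4, 3, 4, 2, 3, 4, 3, 4, 5, 2, 3, 4, 3, 4, 2, 3, 4, 3, 4, 2, 3, 4, 3, 4, 2, 3, 4, 3, 4, 2, 3, 4, 3, 4, 5, 2, 3, 4, 3, 4, 2, 3, 4, 3, 4, 2, 3, 4, 3, 4, 2, 3, 4, 3, 4, 2, 3, 4, 3, 4, 5])) (.node 50 (.leaf 45 15 [2, 3, 4, 3, 4, 2, 3, 4, 3, 4, 5, 2, 3, 4, 3, 4, 2, 3, 4, 3, 4, 2, 3, 4, 3, 4, 2, 3, 4, 3, 4, 2, 3, 4, 3, 4, 5, 2, 3, 4, 3, 4, 2, 3, 4, 3, 4, 2, 3, 4, 3, 4, 2, 3, 4, 3, 4, 2, 3, 4, 3, 4, 5, 2, 3, 4, 3, 4, 2, 3, 4, 3, 4, 2, 3, 4, 3, 4]) (.leaf 45 2 [4, 3, 4, 2, 3, 4, 3,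 4, 2, 3, 4, 3, 4, 2, 3, 4, 3, 4, 2, 3, 4, 3, 4, 5, 2, 3, 4, 3, 4, 2, 3, 4, 3, 4, 2, 3, 4, 3, 4, 2, 3, 4, 3, 4, 2, 3, 4, 3, 4, 5, 2, 3, 4, 3, 4, 2, 3, 4, 3, 4, 2, 3, 4, 3, 4, 2, 3, 4, 3, 4, 2, 3, 4, 3, 4, 5, 2, 3]))))))))))


end Cfsg.Agent.Lib.Helper11.Suzc0
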